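import Mathlib.RingTheory.RegularLocalRing.Defs
import Mathlib.RingTheory.Regular.RegularSequence
import Mathlib.RingTheory.KrullDimension.Regular
import Mathlib.RingTheory.Nakayama
import Groth.Agent.Lib.CMFree.Regular

/-!
# Regular local rings: regular systems of parameters
-/

universe u

open IsLocalRing RingTheory.Sequence

namespace GrothLib.RegLoc

variable {R : Type u} [CommRing R]

theorem isLocalRing_quotient [IsLocalRing R] {I : Ideal R} (hI : I ≤ maximalIdeal R) :
    IsLocalRing (R ⧸ I) := by
  have : Nontrivial (R ⧸ I) := Ideal.Quotient.nontrivial_iff.2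
    (fun e => (maximalIdeal.isMaximal R).ne_top (top_le_iff.1 (e ▸ hI)))
  exact .of_surjective' (Ideal.Quotient.mk _) Ideal.Quotient.mk_surjective

theorem map_maximalIdeal_quotient [IsLocalRing R] (I : Ideal R) [IsLocalRing (R ⧸ I)] :
    (maximalIdeal R).map (Ideal.Quotient.mk I) = maximalIdeal (R ⧸ I) := by
  have : IsLocalHom (Ideal.Quotient.mk I) :=
    IsLocalHom.of_surjective _ Ideal.Quotient.mk_surjective
  rw [← maximalIdeal_comap (Ideal.Quotient.mk I),
    Ideal.map_comap_of_surjective _ Ideal.Quotient.mk_surjective]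

theorem exists_dim_eq [IsLocalRing R] [IsNoetherianRing R] :
    ∃ n : ℕ, ringKrullDim R = n ∧ n ≤ (maximalIdeal R).spanFinrank := by
  have h := ringKrullDim_le_spanFinrank_maximalIdeal R
  have h0 : (0 : WithBot ℕ∞) ≤ ringKrullDim R := ringKrullDim_nonneg_of_nontrivial
  generalize ringKrullDim R = D at h h0
  induction D with
  | bot => exact absurd h0 (by simp)
  | coe a =>
    induction a with
    | top =>
      exact absurd (WithBot.coe_le_coe.1 (show ((⊤ : ℕ∞) : WithBot ℕ∞) ≤
        (((maximalIdeal R).spanFinrank : ℕ∞) : WithBot ℕ∞) from h)) (by simp)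
    | coe n =>
      refine ⟨n, rfl, ?_⟩
      exact_mod_cast h

/-- If `J ⊇ (y)` and the image of `J` modulo `y` is generated by the images of `z`, then `J` is
generated by `y, z`. -/
theorem eq_span_cons {d : ℕ} {y : R} {z : Fin d → R} {J : Ideal R} (hy : y ∈ J)
    (h : J.map (Ideal.Quotient.mk (Ideal.span {y})) =
      Ideal.span (Set.range fun i => Ideal.Quotient.mk (Ideal.span {y}) (z i))) :
    J = Ideal.span (Set.range (Fin.cons y z : Fin (d + 1) → R)) := by
  have h1 : J = (J.map (Ideal.Quotient.mk (Ideal.span {y}))).comap (Ideal.Quotient.mk _) := by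
    rw [Ideal.comap_map_of_surjective _ Ideal.Quotient.mk_surjective, ← RingHom.ker_eq_comap_bot,
      Ideal.mk_ker]
    exact (sup_eq_left.2 ((Ideal.span_singleton_le_iff_mem J).2 hy)).symm
  rw [h1, h, Fin.range_cons, Ideal.span_insert, sup_comm,
    show (fun i => Ideal.Quotient.mk (Ideal.span {y}) (z i)) = Ideal.Quotient.mk _ ∘ z from rfl,
    Set.range_comp, ← Ideal.map_span,
    Ideal.comap_map_of_surjective _ Ideal.Quotient.mk_surjective, ← RingHom.ker_eq_comap_bot,
    Ideal.mk_ker]

theorem spanFinrank_le_of_span {n : ℕ} {I : Ideal R} (z : Fin n → R)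
    (h : Ideal.span (Set.range z) = I) : I.spanFinrank ≤ n := by
  subst h
  refine (Submodule.spanFinrank_span_le_ncard_of_finite (R := R) (Set.finite_range z)).trans ?_
  rw [← Set.image_univ]
  exact (Set.ncard_image_le Set.finite_univ).trans (by simp)

theorem exists_generators_fin [IsNoetherianRing R] (I : Ideal R) :
    ∃ z : Fin I.spanFinrank → R, Ideal.span (Set.range z) = I := by
  classical
  obtain ⟨s, hs, hspan⟩ := Submodule.FG.exists_span_finset_card_eq_spanFinrank
    (IsNoetherian.noetherian I)
  let e : Fin I.spanFinrank ≃ s := (finCongr hs.symm).trans s.equivFin.symm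
  refine ⟨fun i => e i, ?_⟩
  have hr : Set.range (fun i => (e i : R)) = (s : Set R) := by
    rw [show (fun i => (e i : R)) = Subtype.val ∘ e from rfl, Set.range_comp, e.surjective.range_eq,
      Set.image_univ, Subtype.range_coe]
  rw [hr]
  exact hspan

/-- Dividing by an element of the maximal ideal lowers the number of generators by at most one. -/
theorem spanFinrank_le_map_add_one [IsLocalRing R] [IsNoetherianRing R] {x : R}
    (hx : x ∈ maximalIdeal R) :
    (maximalIdeal R).spanFinrank ≤
      ((maximalIdeal R).map (Ideal.Quotient.mk (Ideal.span {x}))).spanFinrank + 1 := by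
  obtain ⟨z, hz⟩ := exists_generators_fin ((maximalIdeal R).map (Ideal.Quotient.mk (Ideal.span {x})))
  choose g hg using Ideal.Quotient.mk_surjective (I := Ideal.span {x})
  refine spanFinrank_le_of_span (Fin.cons x (g ∘ z)) (eq_span_cons hx ?_).symm
  simp only [Function.comp_apply, hg]
  exact hz.symm

/-- If the tail together with `m²` generates `m`, then the tail generates `m`. -/
theorem eq_maximalIdeal_of_sup_sq [IsLocalRing R] [IsNoetherianRing R] {J : Ideal R}
    (hJ : J ≤ maximalIdeal R) (h : maximalIdeal R ≤ J ⊔ maximalIdeal R ^ 2) :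
    J = maximalIdeal R := by
  refine le_antisymm hJ (Submodule.le_of_le_smul_of_le_jacobson_bot (I := maximalIdeal R)
    (IsNoetherian.noetherian _) (maximalIdeal_le_jacobson _) ?_)
  rwa [smul_eq_mul, ← sq]

theorem not_mem_sq_of_span_cons [IsLocalRing R] [IsNoetherianRing R] {d : ℕ}
    (hd : d < (maximalIdeal R).spanFinrank) {y : R} {z : Fin d → R}
    (h : Ideal.span (Set.range (Fin.cons y z : Fin (d + 1) → R)) = maximalIdeal R) :
    y ∉ maximalIdeal R ^ 2 := by
  intro hy
  rw [Fin.range_cons, Ideal.span_insert] at h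
  have := eq_maximalIdeal_of_sup_sq (J := Ideal.span (Set.range z)) (h ▸ le_sup_right) (by
    conv_lhs => rw [← h]
    exact sup_le (le_sup_of_le_right ((Ideal.span_singleton_le_iff_mem _).2 hy)) le_sup_left)
  exact absurd (spanFinrank_le_of_span z this) (by omega)

/-- The quotient of a regular local ring by `x ∈ m \ m²` is regular, of dimension one less. -/
theorem quotient_isRegularLocalRing [IsRegularLocalRing R] {x : R} (hx : x ∈ maximalIdeal R)
    (hx2 : x ∉ maximalIdeal R ^ 2) :
    IsRegularLocalRing (R ⧸ Ideal.span {x}) ∧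
      ringKrullDim (R ⧸ Ideal.span {x}) + 1 = ringKrullDim R ∧
      ((maximalIdeal R).map (Ideal.Quotient.mk (Ideal.span {x}))).spanFinrank + 1 =
        (maximalIdeal R).spanFinrank := by
  have := GrothLib.CMFree.isDomain_of_isRegularLocalRing R
  have hx0 : x ≠ 0 := fun e => hx2 (e ▸ Submodule.zero_mem _)
  have := isLocalRing_quotient ((Ideal.span_singleton_le_iff_mem _).2 hx)
  have hdim := ringKrullDim_quotient_span_singleton_succ_eq_ringKrullDim_of_mem_nonZeroDivisors
    (mem_nonZeroDivisors_of_ne_zero hx0) hx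
  have hlt := GrothLib.CMFree.spanFinrank_map_lt hx hx2
  obtain ⟨n, hn, hn'⟩ := exists_dim_eq (R := R ⧸ Ideal.span {x})
  have hR := IsRegularLocalRing.spanFinrank_maximalIdeal (R := R)
  rw [map_maximalIdeal_quotient] at hlt ⊢
  rw [hn, ← hR] at hdim
  norm_cast at hdim
  refine ⟨IsRegularLocalRing.of_spanFinrank_maximalIdeal_le _ ?_, ?_, by omega⟩
  · rw [hn]; norm_cast; omega
  · rw [hn, ← hR]; exact_mod_cast hdim

/-- Regularity lifts from the quotient by a nonzerodivisor in the maximal ideal. -/
theorem isRegularLocalRing_of_quotient [IsLocalRing R] [IsNoetherianRing R] {x : R}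
    (hx : x ∈ maximalIdeal R) (hreg : x ∈ nonZeroDivisors R)
    [IsRegularLocalRing (R ⧸ Ideal.span {x})] : IsRegularLocalRing R := by
  have h1 := spanFinrank_le_map_add_one hx
  rw [map_maximalIdeal_quotient] at h1
  refine IsRegularLocalRing.of_spanFinrank_maximalIdeal_le R ?_
  rw [← ringKrullDim_quotient_span_singleton_succ_eq_ringKrullDim_of_mem_nonZeroDivisors hreg hx,
    ← IsRegularLocalRing.spanFinrank_maximalIdeal]
  exact_mod_cast h1

/-- Minimal generators of the maximal ideal of a regular local ring form a regular sequence. -/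
theorem isWeaklyRegular_ofFn : ∀ (d : ℕ) (R : Type u) [CommRing R] [IsRegularLocalRing R],
    (maximalIdeal R).spanFinrank = d → ∀ x : Fin d → R,
      Ideal.span (Set.range x) = maximalIdeal R → IsWeaklyRegular R (List.ofFn x) := by
  intro d
  induction d with
  | zero => intro R _ _ _ x _; simp
  | succ d ih =>
    intro R _ _ hd x hx
    have := GrothLib.CMFree.isDomain_of_isRegularLocalRing R
    obtain ⟨y, z, rfl⟩ : ∃ y z, x = Fin.cons y z := ⟨x 0, Fin.tail x, (Fin.cons_self_tail x).symm⟩
    have hy : y ∈ maximalIdeal R := hx ▸ Ideal.subset_span ⟨0, by simp⟩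
    have hy2 : y ∉ maximalIdeal R ^ 2 := not_mem_sq_of_span_cons (by omega) hx
    have hy0 : y ≠ 0 := fun e => hy2 (e ▸ Submodule.zero_mem _)
    obtain ⟨hreg, -, hrk⟩ := quotient_isRegularLocalRing hy hy2
    rw [List.ofFn_succ, isWeaklyRegular_cons_iff]
    simp only [Fin.cons_succ]
    refine ⟨(isRegular_iff_ne_zero.2 hy0).left.isSMulRegular, ?_⟩
    let S := R ⧸ Ideal.span {y}
    have hmS : Ideal.span (Set.range fun i => Ideal.Quotient.mk (Ideal.span {y}) (z i)) =
        maximalIdeal S := by
      rw [← map_maximalIdeal_quotient, ← hx, Fin.range_cons, Ideal.span_insert, Ideal.map_sup,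
        Ideal.map_span, Ideal.map_span, ← Set.range_comp]
      simp only [Set.image_singleton, Ideal.Quotient.eq_zero_iff_mem.2
        (Ideal.mem_span_singleton_self y), Ideal.span_singleton_zero, bot_sup_eq]
      rfl
    have := ih S (by rw [← map_maximalIdeal_quotient]; omega) _ hmS
    have e : S ≃ₗ[R] QuotSMulTop y R := Submodule.quotEquivOfEq _ _ (by
      simp [← Submodule.ideal_span_singleton_smul])
    rw [Fin.cons_zero, ← e.isWeaklyRegular_congr, ← isWeaklyRegular_map_algebraMap_iff S S,
      List.map_ofFn]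
    exact this

theorem isRegular_ofFn [IsRegularLocalRing R] (d : ℕ) (hd : ringKrullDim R = d) (x : Fin d → R)
    (hx : Ideal.span (Set.range x) = maximalIdeal R) :
    IsRegular R (List.ofFn x) := by
  have hd' : (maximalIdeal R).spanFinrank = d := by
    rw [← IsRegularLocalRing.spanFinrank_maximalIdeal] at hd
    exact_mod_cast hd
  refine ⟨isWeaklyRegular_ofFn d R hd' x hx, ?_⟩
  intro htop
  have hle : Ideal.ofList (List.ofFn x) ≤ maximalIdeal R := by
    rw [Ideal.ofList, Ideal.span_le]
    intro r hr
    obtain ⟨i, rfl⟩ := List.mem_ofFn.1 hr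
    exact hx ▸ Ideal.subset_span ⟨i, rfl⟩
  rw [smul_eq_mul, Ideal.mul_top] at htop
  exact (maximalIdeal.isMaximal R).ne_top (top_le_iff.1 (htop ▸ hle))

/-- A regular quotient of a regular local ring is cut out by part of a regular system of
parameters. -/
theorem exists_generators_quotient : ∀ (d : ℕ) (R : Type u) [CommRing R] [IsRegularLocalRing R],
    (maximalIdeal R).spanFinrank = d → ∀ (I : Ideal R) [IsRegularLocalRing (R ⧸ I)],
      ∃ (x : Fin d → R) (c : ℕ) (hc : c ≤ d), Ideal.span (Set.range x) = maximalIdeal R ∧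
        I = Ideal.span (Set.range (fun i : Fin c => x (Fin.castLE hc i))) ∧
        (maximalIdeal (R ⧸ I)).spanFinrank + c = d := by
  intro d
  induction d with
  | zero =>
    intro R _ _ hd I hI
    have hbot : maximalIdeal R = ⊥ :=
      (Submodule.spanFinrank_eq_zero_iff_eq_bot (IsNoetherian.noetherian _)).1 hd
    have : Nontrivial (R ⧸ I) := hI.toIsLocalRing.toNontrivial
    have hI0 : I = ⊥ := le_bot_iff.1 (hbot ▸ le_maximalIdeal (Ideal.Quotient.nontrivial_iff.1 this))
    refine ⟨Fin.elim0, 0, le_rfl, by simp [hbot], by simp [hI0], ?_⟩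
    rw [← map_maximalIdeal_quotient I, hbot, Ideal.map_bot, Submodule.spanFinrank_bot]
  | succ d ih =>
    intro R _ _ hd I hI
    have := GrothLib.CMFree.isDomain_of_isRegularLocalRing R
    by_cases hI0 : I = ⊥
    · obtain ⟨x, hx⟩ := exists_generators_fin (maximalIdeal R)
      refine ⟨x ∘ finCongr hd.symm, 0, Nat.zero_le _, ?_, by simp [hI0], ?_⟩
      · rw [(finCongr hd.symm).surjective.range_comp]; exact hx
      · subst hI0
        rw [← map_maximalIdeal_quotient, add_zero, ← hd]
        exact Ideal.spanFinrank_map_eq_of_ringEquiv (RingEquiv.quotientBot R).symm _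
    have : Nontrivial (R ⧸ I) := hI.toIsLocalRing.toNontrivial
    have hIm : I ≤ maximalIdeal R := le_maximalIdeal (Ideal.Quotient.nontrivial_iff.1 this)
    obtain ⟨y, hyI, hy2⟩ : ∃ y ∈ I, y ∉ maximalIdeal R ^ 2 := by
      by_contra hc
      push Not at hc
      obtain ⟨z, hz⟩ := exists_generators_fin (maximalIdeal (R ⧸ I))
      choose g hg using Ideal.Quotient.mk_surjective (I := I)
      have hmap : (Ideal.span (Set.range (g ∘ z))).map (Ideal.Quotient.mk I) =
          maximalIdeal (R ⧸ I) := by
        rw [Ideal.map_span, ← Set.range_comp, show Ideal.Quotient.mk I ∘ g ∘ z = z from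
          funext fun i => hg _, hz]
      have hle : Ideal.span (Set.range (g ∘ z)) ≤ maximalIdeal R := by
        refine le_maximalIdeal fun e => (maximalIdeal.isMaximal (R ⧸ I)).ne_top ?_
        rw [← hmap, e, Ideal.map_top]
      have hspan : Ideal.span (Set.range (g ∘ z)) = maximalIdeal R := by
        refine eq_maximalIdeal_of_sup_sq hle ?_
        have := Ideal.le_comap_map (f := Ideal.Quotient.mk I) (I := maximalIdeal R)
        rw [map_maximalIdeal_quotient, ← hmap,
          Ideal.comap_map_of_surjective _ Ideal.Quotient.mk_surjective, ← RingHom.ker_eq_comap_bot,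
          Ideal.mk_ker] at this
        exact this.trans (sup_le_sup_left hc _)
      have h1 := spanFinrank_le_of_span _ hspan
      obtain ⟨a, haI, ha0⟩ := Submodule.exists_mem_ne_zero_of_ne_bot hI0
      have h2 := ringKrullDim_quotient_span_singleton_succ_eq_ringKrullDim_of_mem_nonZeroDivisors
        (mem_nonZeroDivisors_of_ne_zero ha0) (hIm haI)
      have h3 : ringKrullDim (R ⧸ I) ≤ ringKrullDim (R ⧸ Ideal.span {a}) :=
        ringKrullDim_le_of_surjective
          (Ideal.Quotient.factor ((Ideal.span_singleton_le_iff_mem I).2 haI))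
          (Ideal.Quotient.factor_surjective _)
      have h4 := add_le_add h3 (le_refl (1 : WithBot ℕ∞))
      rw [h2, ← IsRegularLocalRing.spanFinrank_maximalIdeal,
        ← IsRegularLocalRing.spanFinrank_maximalIdeal] at h4
      norm_cast at h4
      omega
    have hy : y ∈ maximalIdeal R := hIm hyI
    obtain ⟨hreg, -, hrk⟩ := quotient_isRegularLocalRing hy hy2
    have hyle : Ideal.span {y} ≤ I := (Ideal.span_singleton_le_iff_mem I).2 hyI
    let e : ((R ⧸ Ideal.span {y}) ⧸ I.map (Ideal.Quotient.mk (Ideal.span {y}))) ≃+* R ⧸ I :=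
      DoubleQuot.quotQuotEquivQuotOfLE hyle
    have hrI := IsRegularLocalRing.of_ringEquiv e.symm
    obtain ⟨x', c, hc, hx', hI', hrank⟩ := ih (R ⧸ Ideal.span {y})
      (by rw [← map_maximalIdeal_quotient]; omega) (I.map (Ideal.Quotient.mk (Ideal.span {y})))
    choose g hg using Ideal.Quotient.mk_surjective (I := Ideal.span {y})
    refine ⟨Fin.cons y (g ∘ x'), c + 1, by omega, (eq_span_cons hy ?_).symm, ?_, ?_⟩
    · simp only [Function.comp_apply, hg, hx', map_maximalIdeal_quotient]
    · have hcast : (fun i : Fin (c + 1) => (Fin.cons y (g ∘ x') : Fin (d + 1) → R)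
          (Fin.castLE (by omega) i)) = Fin.cons y (fun i => g (x' (Fin.castLE hc i))) := by
        funext i
        cases i using Fin.cases <;> simp
      rw [hcast]
      refine eq_span_cons hyI ?_
      simp only [hg]
      exact hI'
    · have h5 : (maximalIdeal ((R ⧸ Ideal.span {y}) ⧸
          I.map (Ideal.Quotient.mk (Ideal.span {y})))).spanFinrank =
          (maximalIdeal (R ⧸ I)).spanFinrank := by
        have := e.isLocalRing
        rw [← map_ringEquiv_maximalIdeal e, Ideal.spanFinrank_map_eq_of_ringEquiv]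
      omega

end GrothLib.RegLoc
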