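import Mathlib.RingTheory.MvPolynomial.Homogeneous
import Mathlib.Algebra.MvPolynomial.Equiv
import Mathlib.RingTheory.Filtration
import Groth.Agent.Lib.RegLoc.Basic

/-!
# Regular sequences are quasi-regular; the associated graded ring of a regular local ring
-/

universe u

open MvPolynomial

namespace GrothLib.RegLoc

variable {R : Type u} [CommRing R]

/-- A homogeneous form of degree `n` with coefficients in `A` evaluates into `A * I ^ n`. -/
theorem eval_mem_mul_pow {σ : Type*} (x : σ → R) {A : Ideal R} {n : ℕ} {F : MvPolynomial σ R}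
    (hF : F.IsHomogeneous n) (hA : ∀ m, coeff m F ∈ A) :
    eval x F ∈ A * Ideal.span (Set.range x) ^ n := by
  rw [eval_eq]
  refine Submodule.sum_mem _ fun m hm => Ideal.mul_mem_mul (hA m) ?_
  refine (Ideal.mem_span_pow_iff_exists_isHomogeneous x _).2
    ⟨monomial m 1, isHomogeneous_monomial 1 ?_, ?_⟩
  · rw [Finsupp.degree_eq_weight_one]; exact hF (mem_support_iff.1 hm)
  · rw [eval_monomial, one_mul]; rfl

theorem eval_mem_mul_pow_of_map_eq_zero {σ : Type*} (x : σ → R) {A : Ideal R} {n : ℕ}
    {F : MvPolynomial σ R} (hF : F.IsHomogeneous n)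
    (hA : MvPolynomial.map (Ideal.Quotient.mk A) F = 0) :
    eval x F ∈ A * Ideal.span (Set.range x) ^ n :=
  eval_mem_mul_pow x hF fun m => Ideal.Quotient.eq_zero_iff_mem.1
    (by rw [← coeff_map, hA, coeff_zero])

theorem exists_of_mem_mul_pow {σ : Type*} (x : σ → R) {A : Ideal R} {n : ℕ} {u : R}
    (hu : u ∈ A * Ideal.span (Set.range x) ^ n) :
    ∃ F : MvPolynomial σ R, F.IsHomogeneous n ∧ MvPolynomial.map (Ideal.Quotient.mk A) F = 0 ∧
      eval x F = u := by
  refine Submodule.mul_induction_on hu (fun a ha b hb => ?_) (fun a b ha hb => ?_)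
  · obtain ⟨p, hp, rfl⟩ := (Ideal.mem_span_pow_iff_exists_isHomogeneous x b).1 hb
    exact ⟨C a * p, hp.C_mul a, by simp [Ideal.Quotient.eq_zero_iff_mem.2 ha], by simp⟩
  · obtain ⟨p, hp, hp0, rfl⟩ := ha
    obtain ⟨q, hq, hq0, rfl⟩ := hb
    exact ⟨p + q, hp.add hq, by rw [map_add, hp0, hq0, add_zero], map_add _ _ _⟩

/-- Each element is regular modulo the elements after it. -/
def RegularFromRight {d : ℕ} (x : Fin d → R) : Prop :=
  ∀ (i : Fin d) (a : R), x i * a ∈ Ideal.span (x '' Set.Ioi i) → a ∈ Ideal.span (x '' Set.Ioi i)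

theorem RegularFromRight.tail {d : ℕ} {y : R} {z : Fin d → R}
    (h : RegularFromRight (Fin.cons y z : Fin (d + 1) → R)) :
    RegularFromRight z ∧ ∀ a, y * a ∈ Ideal.span (Set.range z) → a ∈ Ideal.span (Set.range z) := by
  have e0 : (Fin.cons y z : Fin (d + 1) → R) '' Set.Ioi 0 = Set.range z := by
    ext r
    constructor
    · rintro ⟨j, hj, rfl⟩
      cases j using Fin.cases with
      | zero => exact absurd hj (by simp)
      | succ k => exact ⟨k, by simp⟩
    · rintro ⟨k, rfl⟩
      exact ⟨k.succ, Fin.succ_pos k, by simp⟩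
  have es : ∀ i : Fin d, (Fin.cons y z : Fin (d + 1) → R) '' Set.Ioi i.succ = z '' Set.Ioi i := by
    intro i
    rw [← Fin.image_succ_Ioi, Set.image_image]
    simp
  refine ⟨fun i a ha => ?_, fun a ha => ?_⟩
  · have := h i.succ a
    rw [es, Fin.cons_succ] at this
    exact this ha
  · have := h 0 a
    rw [e0, Fin.cons_zero] at this
    exact this ha

/-- Regular sequences are quasi-regular. -/
theorem map_eq_zero_of_eval_eq_zero : ∀ (d : ℕ) (x : Fin d → R), RegularFromRight x →
    ∀ (n : ℕ) (F : MvPolynomial (Fin d) R), F.IsHomogeneous n → eval x F = 0 →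
      MvPolynomial.map (Ideal.Quotient.mk (Ideal.span (Set.range x))) F = 0 := by
  intro d
  induction d with
  | zero =>
    intro x _ n F _ h
    obtain ⟨a, rfl⟩ := C_surjective (Fin 0) F
    rw [eval_C] at h
    simp [h]
  | succ d ihd =>
    intro x hx
    obtain ⟨y, z, rfl⟩ : ∃ y z, x = Fin.cons y z := ⟨x 0, Fin.tail x, (Fin.cons_self_tail x).symm⟩
    obtain ⟨hz, hy⟩ := hx.tail
    set I := Ideal.span (Set.range (Fin.cons y z : Fin (d + 1) → R)) with hI
    set J := Ideal.span (Set.range z) with hJ
    have hJI : J ≤ I := Ideal.span_mono (by rw [Fin.range_cons]; exact Set.subset_insert _ _)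
    have hyI : y ∈ I := Ideal.subset_span ⟨0, by simp⟩
    -- `y` is regular modulo every power of `J`
    have hpow : ∀ (j : ℕ) (a : R), y * a ∈ J ^ j → a ∈ J ^ j := by
      intro j
      induction j with
      | zero => intro a _; simp
      | succ j ihj =>
        intro a ha
        obtain ⟨H, hH, rfl⟩ := (Ideal.mem_span_pow_iff_exists_isHomogeneous z a).1
          (ihj a (Ideal.pow_le_pow_right (Nat.le_succ j) ha))
        rw [pow_succ'] at ha ⊢
        obtain ⟨K, hK, hK0, hKe⟩ := exists_of_mem_mul_pow z ha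
        have h0 := ihd z hz j (C y * H - K) ((hH.C_mul y).sub hK) (by simp [hKe])
        rw [map_sub, hK0, sub_zero, map_mul, map_C] at h0
        refine eval_mem_mul_pow z hH fun m => hy _ (Ideal.Quotient.eq_zero_iff_mem.1 ?_)
        have := congrArg (coeff m) h0
        rw [coeff_C_mul, coeff_zero, coeff_map] at this
        rw [map_mul]
        exact this
    intro n
    induction n with
    | zero =>
      intro F hF h
      have hF' : F = C (coeff 0 F) :=
        totalDegree_eq_zero_iff_eq_C.1 (Nat.le_zero.1 hF.totalDegree_le)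
      rw [hF', eval_C] at h
      rw [hF', map_C, h]
      simp
    | succ n ihn =>
      intro F hF h
      set G₀ := (finSuccEquiv R d F).coeff 0 with hG₀
      set H := (finSuccEquiv R d).symm (finSuccEquiv R d F).divX with hH
      have hdec : F = X 0 * H + rename Fin.succ G₀ := by
        apply (finSuccEquiv R d).injective
        rw [map_add, map_mul, hH, AlgEquiv.apply_symm_apply, finSuccEquiv_X_zero,
          show finSuccEquiv R d (rename Fin.succ G₀) = Polynomial.C G₀ from
            DFunLike.congr_fun (show (finSuccEquiv R d).toAlgHom.comp (rename Fin.succ) =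
              IsScalarTower.toAlgHom R (MvPolynomial (Fin d) R) _ from
                algHom_ext fun i => by simp [finSuccEquiv_X_succ]) G₀]
        exact (Polynomial.X_mul_divX_add _).symm
      have hG₀hom : G₀.IsHomogeneous (n + 1) :=
        hF.finSuccEquiv_coeff_isHomogeneous 0 (n + 1) (Nat.zero_add _)
      have hHhom : H.IsHomogeneous n := by
        intro m hm
        have : coeff (Finsupp.single 0 1 + m) (X 0 * H) = coeff m H := coeff_X_mul _ _ _
        have h2 : coeff (Finsupp.single (0 : Fin (d + 1)) 1 + m) (rename Fin.succ G₀) = 0 := by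
          refine coeff_rename_eq_zero _ _ _ fun u hu => ?_
          exfalso
          have h3 := DFunLike.congr_fun hu 0
          rw [Finsupp.mapDomain_notin_range _ _ (fun ⟨k, hk⟩ => Fin.succ_ne_zero k hk)] at h3
          simp at h3
          omega
        have hne : coeff (Finsupp.single 0 1 + m) F ≠ 0 := by
          rw [hdec, coeff_add, this, h2, add_zero]; exact hm
        have h4 := hF hne
        rw [map_add] at h4
        simp only [Finsupp.weight_single, Pi.one_apply, smul_eq_mul, mul_one] at h4
        omega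
      have heval : y * eval (Fin.cons y z) H + eval z G₀ = 0 := by
        rw [hdec, map_add, map_mul, eval_X, eval_rename] at h
        simpa [Function.comp_def] using h
      set u := eval (Fin.cons y z) H with hu
      have hG₀mem : eval z G₀ ∈ J ^ (n + 1) :=
        (Ideal.mem_span_pow_iff_exists_isHomogeneous z _).2 ⟨G₀, hG₀hom, rfl⟩
      have hyu : y * u ∈ J ^ (n + 1) := by
        rw [eq_neg_of_add_eq_zero_left heval]; exact neg_mem hG₀mem
      have hu' := hpow _ _ hyu
      obtain ⟨H', hH', hH'e⟩ := (Ideal.mem_span_pow_iff_exists_isHomogeneous z u).1 hu'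
      have hG := ihd z hz (n + 1) (C y * H' + G₀) ((hH'.C_mul y).add hG₀hom) (by
        rw [map_add, map_mul, eval_C, hH'e]; exact heval)
      have hG' : MvPolynomial.map (Ideal.Quotient.mk I) G₀ = 0 := by
        have h5 := congrArg (MvPolynomial.map (Ideal.Quotient.factor hJI)) hG
        rw [map_map, Ideal.Quotient.factor_comp_mk, map_zero, map_add, map_mul, map_C,
          Ideal.Quotient.eq_zero_iff_mem.2 hyI] at h5
        simpa using h5
      obtain ⟨K, hK, hK0, hKe⟩ := exists_of_mem_mul_pow (A := I) (n := n) (Fin.cons y z)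
        (show u ∈ I * I ^ n by rw [← pow_succ']; exact Ideal.pow_right_mono hJI _ hu')
      have hH0 := ihn (H - K) (hHhom.sub hK) (by rw [map_sub, hKe, ← hu, sub_self])
      rw [map_sub, hK0, sub_zero] at hH0
      rw [hdec, map_add, map_mul, hH0, mul_zero, zero_add, map_rename, hG', map_zero]

theorem map_eq_zero_of_eval_mem_pow_succ {d : ℕ} {x : Fin d → R} (hx : RegularFromRight x) {n : ℕ}
    {F : MvPolynomial (Fin d) R} (hF : F.IsHomogeneous n)
    (h : eval x F ∈ Ideal.span (Set.range x) ^ (n + 1)) :
    MvPolynomial.map (Ideal.Quotient.mk (Ideal.span (Set.range x))) F = 0 := by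
  rw [pow_succ'] at h
  obtain ⟨K, hK, hK0, hKe⟩ := exists_of_mem_mul_pow x h
  have := map_eq_zero_of_eval_eq_zero d x hx n (F - K) (hF.sub hK) (by rw [map_sub, hKe, sub_self])
  rwa [map_sub, hK0, sub_zero] at this

open IsLocalRing RingTheory.Sequence in
theorem regularFromRight_of_span_eq [IsRegularLocalRing R] {d : ℕ} (x : Fin d → R)
    (hd : (maximalIdeal R).spanFinrank = d) (hx : Ideal.span (Set.range x) = maximalIdeal R) :
    RegularFromRight x := by
  intro i a ha
  have hw := isWeaklyRegular_ofFn d R hd (x ∘ Fin.rev) (by rw [Fin.rev_surjective.range_comp, hx])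
  obtain ⟨hreg⟩ := hw
  have := hreg (Fin.rev i).1 (by simp only [List.length_ofFn]; exact (Fin.rev i).2)
  have hspan : Ideal.ofList ((List.ofFn (x ∘ Fin.rev)).take (Fin.rev i).1) • (⊤ : Ideal R) =
      Ideal.span (x '' Set.Ioi i) := by
    rw [smul_eq_mul, Ideal.mul_top, Ideal.ofList]
    congr 1
    ext r
    simp only [Set.mem_setOf_eq, List.mem_take_iff_getElem, Set.mem_image, Set.mem_Ioi]
    constructor
    · rintro ⟨j, hj, rfl⟩
      simp only [List.length_ofFn, lt_min_iff] at hj
      refine ⟨Fin.rev ⟨j, hj.2⟩, ?_, by simp⟩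
      rw [← Fin.rev_lt_rev, Fin.rev_rev]
      exact hj.1
    · rintro ⟨k, hk, rfl⟩
      refine ⟨(Fin.rev k).1, ?_, by rw [List.getElem_ofFn]; simp only [Fin.eta, Function.comp_apply, Fin.rev_rev]⟩
      simp only [List.length_ofFn, lt_min_iff]
      exact ⟨Fin.rev_lt_rev.2 hk, (Fin.rev k).2⟩
  rw [hspan] at this
  rw [List.getElem_ofFn] at this
  simp only [Fin.eta, Function.comp_apply, Fin.rev_rev] at this
  have h2 := this.right_eq_zero_of_smul (x := Submodule.Quotient.mk a) (by
    rw [← Submodule.Quotient.mk_smul, Submodule.Quotient.mk_eq_zero]; exact ha)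
  exact (Submodule.Quotient.mk_eq_zero _).1 h2

end GrothLib.RegLoc
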