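import Mathlib.RingTheory.IntegralClosure.IntegrallyClosed
import Mathlib.RingTheory.Polynomial.UniqueFactorization
import Mathlib.RingTheory.FractionalIdeal.Operations
import Groth.Agent.Lib.RegLoc.QuasiRegular

/-!
# Initial forms in regular local rings; regular local rings are normal
-/

universe u

open IsLocalRing MvPolynomial

namespace GrothLib.RegLoc

theorem dvd_of_forall_pow_dvd_mul_pow {A : Type*} [CommRing A] [IsDomain A]
    [UniqueFactorizationMonoid A] {c : A} (hc : c ≠ 0) :
    ∀ g f : A, (∀ n : ℕ, g ^ n ∣ c * f ^ n) → g ∣ f := by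
  intro g
  induction g using UniqueFactorizationMonoid.induction_on_prime with
  | h₁ =>
    intro f h
    have := h 1
    simp only [pow_one, zero_dvd_iff, mul_eq_zero, hc, false_or] at this
    exact this ▸ dvd_rfl
  | h₂ u hu => intro f _; exact hu.dvd
  | h₃ g p hg hp ih =>
    intro f h
    have hpf : p ∣ f := by
      by_contra hpf
      obtain ⟨N, hN⟩ := FiniteMultiplicity.of_prime_left hp hc
      refine hN ?_
      have h1 : p ^ (N + 1) ∣ c * f ^ (N + 1) :=
        dvd_trans (pow_dvd_pow_of_dvd (dvd_mul_right p g) _) (h (N + 1))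
      exact hp.pow_dvd_of_dvd_mul_right _ (fun hd => hpf (hp.dvd_of_dvd_pow hd)) h1
    obtain ⟨f, rfl⟩ := hpf
    refine mul_dvd_mul_left p (ih f fun n => ?_)
    have := h n
    rw [mul_pow, mul_pow, mul_left_comm] at this
    exact (mul_dvd_mul_iff_left (pow_ne_zero n hp.ne_zero)).1 this

theorem exists_homogeneous_quotient {σ K : Type*} [CommRing K] {G Q : MvPolynomial σ K}
    {j k : ℕ} (hG : G.IsHomogeneous j) (hGQ : (G * Q).IsHomogeneous k) (hne : G * Q ≠ 0) :
    j ≤ k ∧ ∃ Q' : MvPolynomial σ K, Q'.IsHomogeneous (k - j) ∧ G * Q = G * Q' := by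
  have key : G * Q = ∑ i ∈ Finset.range (Q.totalDegree + 1),
      if j + i = k then G * homogeneousComponent i Q else 0 := by
    conv_lhs => rw [← homogeneousComponent_eq_self hGQ, ← sum_homogeneousComponent Q,
      Finset.mul_sum, map_sum]
    refine Finset.sum_congr rfl fun i _ => ?_
    rw [homogeneousComponent_of_mem ((mem_homogeneousSubmodule _ _).2
      (hG.mul (homogeneousComponent_isHomogeneous i Q)))]
    by_cases h : j + i = k <;> simp [h, eq_comm (a := k)]
  have hjk : j ≤ k := by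
    by_contra hjk
    refine hne (key.trans (Finset.sum_eq_zero fun i _ => if_neg ?_))
    omega
  refine ⟨hjk, homogeneousComponent (k - j) Q, homogeneousComponent_isHomogeneous _ _, ?_⟩
  rw [key, Finset.sum_eq_single (k - j)]
  · rw [if_pos (by omega)]
  · exact fun i _ hi => if_neg (by omega)
  · intro hi
    rw [Finset.mem_range] at hi
    rw [homogeneousComponent_eq_zero _ _ (by omega), mul_zero, ite_self]

theorem exists_homogeneous_lift {σ R S : Type*} [CommRing R] [CommRing S] {f : R →+* S}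
    (hf : Function.Surjective f) {n : ℕ} {Q : MvPolynomial σ S} (hQ : Q.IsHomogeneous n) :
    ∃ P : MvPolynomial σ R, P.IsHomogeneous n ∧ MvPolynomial.map f P = Q := by
  classical
  obtain ⟨P, rfl⟩ := map_surjective f hf Q
  refine ⟨homogeneousComponent n P, homogeneousComponent_isHomogeneous n P, ?_⟩
  conv_rhs => rw [← homogeneousComponent_eq_self hQ]
  ext m
  rw [coeff_map, coeff_homogeneousComponent, coeff_homogeneousComponent, coeff_map]
  split_ifs <;> simp

variable {R : Type u} [CommRing R]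

theorem exists_order [IsLocalRing R] [IsNoetherianRing R] {a : R} (ha : a ≠ 0) :
    ∃ i : ℕ, a ∈ maximalIdeal R ^ i ∧ a ∉ maximalIdeal R ^ (i + 1) := by
  have h : ∃ i, a ∉ maximalIdeal R ^ i := by
    by_contra hc
    push Not at hc
    refine ha ?_
    have : a ∈ ⨅ i, maximalIdeal R ^ i := Ideal.mem_iInf.2 hc
    rwa [Ideal.iInf_pow_eq_bot_of_isLocalRing _ (maximalIdeal.isMaximal R).ne_top] at this
  classical
  obtain ⟨i, hi⟩ : ∃ i, Nat.find h = i + 1 := by
    refine Nat.exists_eq_succ_of_ne_zero fun e => ?_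
    have := Nat.find_spec h
    rw [e, pow_zero, Ideal.one_eq_top] at this
    exact this trivial
  exact ⟨i, not_not.1 (Nat.find_min h (by omega)), hi ▸ Nat.find_spec h⟩

theorem eval_mem_pow [IsLocalRing R] {d : ℕ} {x : Fin d → R}
    (hx : Ideal.span (Set.range x) = maximalIdeal R) {i : ℕ} {F : MvPolynomial (Fin d) R} (hF : F.IsHomogeneous i) :
    eval x F ∈ maximalIdeal R ^ i :=
  hx ▸ (Ideal.mem_span_pow_iff_exists_isHomogeneous x _).2 ⟨F, hF, rfl⟩

theorem eval_mem_pow_succ [IsLocalRing R] {d : ℕ} {x : Fin d → R}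
    (hx : Ideal.span (Set.range x) = maximalIdeal R) {i : ℕ} {F : MvPolynomial (Fin d) R} (hF : F.IsHomogeneous i)
    (h : MvPolynomial.map (residue R) F = 0) : eval x F ∈ maximalIdeal R ^ (i + 1) := by
  have := eval_mem_mul_pow_of_map_eq_zero x (A := maximalIdeal R) hF h
  rwa [hx, ← pow_succ'] at this

variable [IsRegularLocalRing R] {d : ℕ} {x : Fin d → R}
  (hd : (maximalIdeal R).spanFinrank = d) (hx : Ideal.span (Set.range x) = maximalIdeal R)
include hx

include hd in
/-- The associated graded ring of a regular local ring is a polynomial ring. -/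
theorem map_residue_eq_zero {i : ℕ} {F : MvPolynomial (Fin d) R} (hF : F.IsHomogeneous i)
    (h : eval x F ∈ maximalIdeal R ^ (i + 1)) : MvPolynomial.map (residue R) F = 0 := by
  have := map_eq_zero_of_eval_mem_pow_succ (regularFromRight_of_span_eq x hd hx) hF (hx ▸ h)
  have h2 := congrArg (MvPolynomial.map (Ideal.Quotient.factor hx.le)) this
  rw [map_map, Ideal.Quotient.factor_comp_mk, map_zero] at h2
  exact h2

include hd in
theorem degree_eq_of_eval_eq {i j : ℕ} {F G : MvPolynomial (Fin d) R} (hF : F.IsHomogeneous i)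
    (hG : G.IsHomogeneous j) (hF0 : MvPolynomial.map (residue R) F ≠ 0)
    (hG0 : MvPolynomial.map (residue R) G ≠ 0) (h : eval x F = eval x G) : i = j := by
  by_contra hne
  rcases Nat.lt_or_gt_of_ne hne with hlt | hlt
  · exact hF0 (map_residue_eq_zero hd hx hF
      (h ▸ Ideal.pow_le_pow_right hlt (eval_mem_pow hx hG)))
  · exact hG0 (map_residue_eq_zero hd hx hG
      (h ▸ Ideal.pow_le_pow_right hlt (eval_mem_pow hx hF)))

theorem exists_form {a : R} {i : ℕ} (ha : a ∈ maximalIdeal R ^ i)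
    (ha' : a ∉ maximalIdeal R ^ (i + 1)) :
    ∃ F : MvPolynomial (Fin d) R, F.IsHomogeneous i ∧ eval x F = a ∧
      MvPolynomial.map (residue R) F ≠ 0 := by
  rw [← hx] at ha
  obtain ⟨F, hF, rfl⟩ := (Ideal.mem_span_pow_iff_exists_isHomogeneous x a).1 ha
  exact ⟨F, hF, rfl, fun h => ha' (eval_mem_pow_succ hx hF h)⟩

include hd in
theorem mem_span_sup_pow_succ {a b c : R} (hb : b ≠ 0) (hc : c ≠ 0)
    (h : ∀ n : ℕ, b ^ n ∣ c * a ^ n) {k : ℕ} (ha : a ∈ maximalIdeal R ^ k) :
    a ∈ Ideal.span {b} ⊔ maximalIdeal R ^ (k + 1) := by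
  have := GrothLib.CMFree.isDomain_of_isRegularLocalRing R
  by_cases ha' : a ∈ maximalIdeal R ^ (k + 1)
  · exact Ideal.mem_sup_right ha'
  obtain ⟨F, hF, rfl, hF0⟩ := exists_form hx ha ha'
  obtain ⟨j, hj, hj'⟩ := exists_order hb
  obtain ⟨G, hG, rfl, hG0⟩ := exists_form hx hj hj'
  obtain ⟨l, hl, hl'⟩ := exists_order hc
  obtain ⟨C', hC, rfl, hC0⟩ := exists_form hx hl hl'
  have hdvd : ∀ n : ℕ, MvPolynomial.map (residue R) G ^ n ∣
      MvPolynomial.map (residue R) C' * MvPolynomial.map (residue R) F ^ n := by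
    intro n
    obtain ⟨e, he⟩ := h n
    have hhom1 := hC.mul (hF.pow n)
    have hne1 : MvPolynomial.map (residue R) (C' * F ^ n) ≠ 0 := by
      rw [map_mul, map_pow]; exact mul_ne_zero hC0 (pow_ne_zero n hF0)
    have he0 : e ≠ 0 := by
      rintro rfl
      refine hne1 (map_residue_eq_zero hd hx hhom1 ?_)
      rw [map_mul, map_pow, he, mul_zero]
      exact Submodule.zero_mem _
    obtain ⟨m, hm, hm'⟩ := exists_order he0
    obtain ⟨E, hE, rfl, hE0⟩ := exists_form hx hm hm'
    have hhom2 := (hG.pow n).mul hE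
    have hne2 : MvPolynomial.map (residue R) (G ^ n * E) ≠ 0 := by
      rw [map_mul, map_pow]; exact mul_ne_zero (pow_ne_zero n hG0) hE0
    have heq : eval x (C' * F ^ n) = eval x (G ^ n * E) := by
      simpa [map_mul, map_pow] using he
    have hdeg := degree_eq_of_eval_eq hd hx hhom1 hhom2 hne1 hne2 heq
    rw [← hdeg] at hhom2
    have h0 := map_residue_eq_zero hd hx (hhom1.sub hhom2) (by
      rw [map_sub, heq, sub_self]; exact Submodule.zero_mem _)
    rw [map_sub, sub_eq_zero, map_mul, map_mul, map_pow, map_pow] at h0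
    exact h0 ▸ dvd_mul_right _ _
  obtain ⟨Q, hQ⟩ := dvd_of_forall_pow_dvd_mul_pow hC0 _ _ hdvd
  obtain ⟨hjk, Q', hQ', hQQ'⟩ := exists_homogeneous_quotient (hG.map (residue R))
    (hQ ▸ hF.map (residue R)) (hQ ▸ hF0)
  obtain ⟨P, hP, rfl⟩ := exists_homogeneous_lift Ideal.Quotient.mk_surjective hQ'
  have hGP : (G * P).IsHomogeneous k := by
    have := hG.mul hP
    rwa [Nat.add_sub_cancel' hjk] at this
  have hmem : eval x (F - G * P) ∈ maximalIdeal R ^ (k + 1) :=
    eval_mem_pow_succ hx (hF.sub hGP) (by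
      rw [map_sub, map_mul, hQ, hQQ', sub_eq_zero]; rfl)
  rw [map_sub, map_mul] at hmem
  rw [show eval x F = eval x G * eval x P + (eval x F - eval x G * eval x P) by ring]
  exact add_mem (Ideal.mem_sup_left (Ideal.mul_mem_right _ _ (Ideal.mem_span_singleton_self _)))
    (Ideal.mem_sup_right hmem)

end GrothLib.RegLoc

namespace GrothLib.RegLoc

open scoped nonZeroDivisors

theorem isIntegrallyClosed_of_isRegularLocalRing (R : Type u) [CommRing R] [IsRegularLocalRing R] :
    IsIntegrallyClosed R := by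
  have := GrothLib.CMFree.isDomain_of_isRegularLocalRing R
  obtain ⟨x, hx⟩ := exists_generators_fin (maximalIdeal R)
  refine (isIntegrallyClosed_iff (FractionRing R)).2 fun {z} hz => ?_
  obtain ⟨a, ⟨b, hb⟩, rfl⟩ := IsLocalization.exists_mk'_eq R⁰ z
  have hb0 : b ≠ 0 := nonZeroDivisors.ne_zero hb
  suffices hab : b ∣ a by
    obtain ⟨q, rfl⟩ := hab
    exact ⟨q, (IsLocalization.eq_mk'_iff_mul_eq.2 (by rw [← map_mul, mul_comm]))⟩
  -- all powers of an integral element have a common denominator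
  have key : ∀ a' : R, IsIntegral R (IsLocalization.mk' (FractionRing R) a' (⟨b, hb⟩ : R⁰)) →
      ∃ c : R, c ≠ 0 ∧ ∀ n : ℕ, b ^ n ∣ c * a' ^ n := by
    intro a' ha'
    obtain ⟨c, hc, hint⟩ := FractionalIdeal.isFractional_of_fg (S := R⁰) ha'.fg_adjoin_singleton
    refine ⟨c, nonZeroDivisors.ne_zero hc, fun n => ?_⟩
    obtain ⟨r, hr⟩ := hint _ (show (IsLocalization.mk' (FractionRing R) a' (⟨b, hb⟩ : R⁰)) ^ n ∈
      Subalgebra.toSubmodule (Algebra.adjoin R {IsLocalization.mk' (FractionRing R) a' ⟨b, hb⟩})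
      from pow_mem (Algebra.self_mem_adjoin_singleton R _) n)
    refine ⟨r, IsFractionRing.injective R (FractionRing R) ?_⟩
    rw [map_mul, map_mul, hr, Algebra.smul_def, map_pow, map_pow,
      ← IsLocalization.mk'_spec (FractionRing R) a' (⟨b, hb⟩ : R⁰)]
    ring
  have hk : ∀ k : ℕ, a ∈ Ideal.span {b} ⊔ maximalIdeal R ^ k := by
    intro k
    induction k with
    | zero => simp
    | succ k ih =>
      obtain ⟨u, hu, v, hv, huv⟩ := Submodule.mem_sup.1 ih
      obtain ⟨t, rfl⟩ := Ideal.mem_span_singleton'.1 hu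
      have hint : IsIntegral R (IsLocalization.mk' (FractionRing R) v (⟨b, hb⟩ : R⁰)) := by
        have e : IsLocalization.mk' (FractionRing R) v (⟨b, hb⟩ : R⁰) =
            IsLocalization.mk' (FractionRing R) a (⟨b, hb⟩ : R⁰) - algebraMap R _ t := by
          rw [IsLocalization.mk'_eq_iff_eq_mul, sub_mul, IsLocalization.mk'_spec, ← huv, map_add,
            map_mul]
          ring
        rw [e]
        exact hz.sub isIntegral_algebraMap
      obtain ⟨c, hc, hcn⟩ := key v hint
      rw [← huv]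
      exact add_mem (Ideal.mem_sup_left (Ideal.mul_mem_left _ _ (Ideal.mem_span_singleton_self _)))
        (mem_span_sup_pow_succ rfl hx hb0 hc hcn hv)
  by_cases htop : Ideal.span {b} = (⊤ : Ideal R)
  · exact Ideal.mem_span_singleton.1 (htop ▸ Submodule.mem_top)
  have := isLocalRing_quotient (le_maximalIdeal htop)
  have h0 : Ideal.Quotient.mk (Ideal.span {b}) a ∈ ⨅ k, maximalIdeal (R ⧸ Ideal.span {b}) ^ k := by
    refine Ideal.mem_iInf.2 fun k => ?_
    have := Ideal.mem_map_of_mem (Ideal.Quotient.mk (Ideal.span {b})) (hk k)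
    rwa [Ideal.map_sup, Ideal.map_quotient_self, bot_sup_eq, Ideal.map_pow,
      map_maximalIdeal_quotient] at this
  rw [Ideal.iInf_pow_eq_bot_of_isLocalRing _ (maximalIdeal.isMaximal _).ne_top] at h0
  exact Ideal.mem_span_singleton.1 (Ideal.Quotient.eq_zero_iff_mem.1 h0)

end GrothLib.RegLoc
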