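import Groth.Agent.Lib.RegLoc.Basic
import Mathlib.RingTheory.Ideal.KrullsHeightTheorem

/-!
# Regularity criteria from quotients
-/

universe u

open IsLocalRing

namespace GrothLib.RegLoc

variable {R : Type u} [CommRing R] [IsLocalRing R] [IsNoetherianRing R]

theorem spanFinrank_maximalIdeal_le_add (I : Ideal R) [IsLocalRing (R ⧸ I)] :
    (maximalIdeal R).spanFinrank ≤ I.spanFinrank + (maximalIdeal (R ⧸ I)).spanFinrank := by
  classical
  have hI : I ≤ maximalIdeal R :=
    le_maximalIdeal (Ideal.Quotient.nontrivial_iff.1 inferInstance)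
  obtain ⟨z, hz⟩ := exists_generators_fin I
  obtain ⟨w, hw⟩ := exists_generators_fin (maximalIdeal (R ⧸ I))
  choose g hg using Ideal.Quotient.mk_surjective (I := I)
  refine spanFinrank_le_of_span (Fin.append z (g ∘ w)) (le_antisymm ?_ ?_)
  · rw [Ideal.span_le]
    rintro _ ⟨i, rfl⟩
    induction i using Fin.addCases with
    | left i =>
      rw [Fin.append_left]
      exact hI (hz ▸ Ideal.subset_span ⟨i, rfl⟩)
    | right i =>
      rw [Fin.append_right, Function.comp_apply]
      have h : Ideal.Quotient.mk I (g (w i)) ∈ maximalIdeal (R ⧸ I) := by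
        rw [hg, ← hw]; exact Ideal.subset_span ⟨i, rfl⟩
      by_contra hc
      rw [SetLike.mem_coe, mem_maximalIdeal, mem_nonunits_iff, not_not] at hc
      exact (mem_maximalIdeal _).1 h (hc.map _)
  · intro a ha
    have h1 : Ideal.Quotient.mk I a ∈ (Ideal.span (Set.range (g ∘ w))).map (Ideal.Quotient.mk I) := by
      rw [Ideal.map_span, ← Set.range_comp, show Ideal.Quotient.mk I ∘ g ∘ w = w from
        funext fun i => hg _, hw, ← map_maximalIdeal_quotient]
      exact Ideal.mem_map_of_mem _ ha
    rw [← Ideal.mem_comap, Ideal.comap_map_of_surjective _ Ideal.Quotient.mk_surjective,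
      ← RingHom.ker_eq_comap_bot, Ideal.mk_ker] at h1
    refine (sup_le (Ideal.span_mono ?_) (hz.symm.le.trans (Ideal.span_mono ?_))) h1
    · rintro _ ⟨i, rfl⟩; exact ⟨Fin.natAdd _ i, Fin.append_right _ _ _⟩
    · rintro _ ⟨i, rfl⟩; exact ⟨Fin.castAdd _ i, Fin.append_left _ _ _⟩

end GrothLib.RegLoc
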