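import Mathlib.RingTheory.MvPowerSeries.Rename
import Mathlib.RingTheory.MvPowerSeries.NoZeroDivisors
import Mathlib.RingTheory.KrullDimension.NonZeroDivisors
import Mathlib.RingTheory.AdicCompletion.Completeness
import Mathlib.RingTheory.AdicCompletion.RingHom
import Mathlib.RingTheory.AdicCompletion.Functoriality
import Mathlib.RingTheory.Ideal.Cotangent
import Mathlib.RingTheory.AdicCompletion.Noetherian
import Mathlib.RingTheory.MvPowerSeries.Inverse
import Mathlib.RingTheory.MvPowerSeries.Trunc
import Groth.Agent.Lib.RegLoc.Normal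

/-!
# Power series rings over a field and complete regular local rings
-/

universe u v w

open IsLocalRing

namespace GrothLib.RegLoc

/-- A local map out of a complete local ring that is surjective on residue fields and cotangent
spaces is surjective. -/
theorem surjective_of_cotangent {R : Type v} {S : Type w} [CommRing R] [CommRing S] [IsLocalRing R]
    [IsLocalRing S] [IsNoetherianRing S] [IsPrecomplete (maximalIdeal R) R] (f : R →+* S)
    (hres : Function.Surjective ((residue S).comp f))
    (hf : (maximalIdeal R).map f ≤ maximalIdeal S)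
    (hcot : maximalIdeal S ≤ (maximalIdeal R).map f ⊔ maximalIdeal S ^ 2) :
    Function.Surjective f ∧ (maximalIdeal R).map f = maximalIdeal S := by
  have h := eq_maximalIdeal_of_sup_sq hf hcot
  refine ⟨?_, h⟩
  have : IsHausdorff ((maximalIdeal R).map f) S := by
    rw [h]; infer_instance
  refine surjective_of_mk_map_comp_surjective (I := maximalIdeal R) f ?_
  rw [h]
  exact hres

theorem sup_sq_iff_span_toCotangent {R : Type v} [CommRing R] [IsLocalRing R] [IsNoetherianRing R]
    {ι : Type*} (b : ι → maximalIdeal R) :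
    Submodule.span (ResidueField R) (Set.range fun i => (maximalIdeal R).toCotangent (b i)) = ⊤ ↔
      Ideal.span (Set.range fun i => (b i : R)) = maximalIdeal R := by
  rw [show (fun i => (maximalIdeal R).toCotangent (b i)) = (maximalIdeal R).toCotangent ∘ b from rfl,
    Set.range_comp, CotangentSpace.span_image_eq_top_iff]
  constructor
  · intro h
    have := congrArg (Submodule.map (maximalIdeal R).subtype) h
    rw [Submodule.map_span, ← Set.range_comp, Submodule.map_top, Submodule.range_subtype] at this
    exact this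
  · intro h
    refine Submodule.map_injective_of_injective (f := (maximalIdeal R).subtype)
      (maximalIdeal R).injective_subtype ?_
    rw [Submodule.map_span, ← Set.range_comp, Submodule.map_top, Submodule.range_subtype]
    exact h

end GrothLib.RegLoc

namespace GrothLib.RegLoc.PS

/-- Evaluation of power series at elements of `I` in an `I`-adically complete algebra. -/
theorem exists_algHom {A : Type*} {R : Type*} [CommRing A] [CommRing R] [Algebra A R] (I : Ideal R)
    [IsAdicComplete I R] {d : ℕ} (b : Fin d → R) (hb : ∀ i, b i ∈ I) :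
    ∃ ψ : MvPowerSeries (Fin d) A →ₐ[A] R, ∀ i, ψ (MvPowerSeries.X i) = b i := by
  let J := MvPolynomial.idealOfVars (Fin d) A
  have hle : ∀ n : ℕ, J ^ n ≤ (I ^ n).comap (MvPolynomial.aeval b) := fun n => by
    refine le_trans (Ideal.pow_right_mono ?_ n) (Ideal.le_comap_pow _ n)
    rw [Ideal.span_le]
    rintro _ ⟨i, rfl⟩
    simpa using hb i
  let q : ∀ n : ℕ, MvPolynomial (Fin d) A ⧸ J ^ n →ₐ[A] R ⧸ I ^ n := fun n =>
    Ideal.Quotient.liftₐ _ ((Ideal.Quotient.mkₐ A (I ^ n)).comp (MvPolynomial.aeval b))
      (fun x hx => Ideal.Quotient.eq_zero_iff_mem.2 (hle n hx))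
  let f : ∀ n : ℕ, MvPowerSeries (Fin d) A →ₐ[A] R ⧸ I ^ n := fun n =>
    (q n).comp ((MvPowerSeries.truncTotalAlgHom (Fin d) A n).restrictScalars A)
  have hf : ∀ {m n : ℕ} (h : m ≤ n),
      (Ideal.Quotient.factorₐ A (Ideal.pow_le_pow_right h)).comp (f n) = f m := fun {m n} h =>
    AlgHom.ext fun p => by
      change Ideal.Quotient.factor (Ideal.pow_le_pow_right h) (Ideal.Quotient.mk (I ^ n)
        (MvPolynomial.aeval b (MvPowerSeries.truncTotal n p))) =
        Ideal.Quotient.mk (I ^ m) (MvPolynomial.aeval b (MvPowerSeries.truncTotal m p))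
      rw [Ideal.Quotient.factor_mk, Ideal.Quotient.eq, ← map_sub]
      exact hle m (MvPowerSeries.truncTotal_sub_truncTotal_mem_pow_idealOfVars h le_rfl _)
  refine ⟨IsAdicComplete.liftAlgHom I f hf, fun i => ?_⟩
  refine eq_of_sub_eq_zero (IsHausdorff.haus (I := I) inferInstance _ fun n => ?_)
  rw [SModEq.sub_mem, sub_zero, smul_eq_mul, Ideal.mul_top, ← Ideal.Quotient.eq,
    IsAdicComplete.mk_liftAlgHom]
  change q n (MvPowerSeries.truncTotalAlgHom (Fin d) A n (MvPowerSeries.X i)) = _
  rw [← MvPolynomial.coe_X, show MvPowerSeries.truncTotalAlgHom (Fin d) A n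
      ((MvPolynomial.X i : MvPolynomial (Fin d) A) : MvPowerSeries (Fin d) A) =
      Ideal.Quotient.mk _ (MvPolynomial.X i) from by
    have h := (MvPowerSeries.truncTotalAlgHom (Fin d) A n).commutes (MvPolynomial.X i)
    rw [MvPowerSeries.algebraMap_apply'] at h
    simpa using h]
  change Ideal.Quotient.mk _ (MvPolynomial.aeval b (MvPolynomial.X i)) = _
  rw [MvPolynomial.aeval_X]

variable (k : Type u) [Field k] {d : ℕ}

local notation "P" => MvPowerSeries (Fin d) k

theorem mem_max {f : P} : f ∈ maximalIdeal P ↔ MvPowerSeries.constantCoeff f = 0 := by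
  rw [IsLocalRing.mem_maximalIdeal, mem_nonunits_iff, MvPowerSeries.isUnit_iff_constantCoeff,
    isUnit_iff_ne_zero, not_not]

theorem X_mem (i : Fin d) : (MvPowerSeries.X i : P) ∈ maximalIdeal P :=
  (mem_max k).2 (MvPowerSeries.constantCoeff_X i)

theorem mem_span_X_pow {n : ℕ} {g : P} (hg : MvPowerSeries.truncTotal n g = 0) :
    g ∈ (Ideal.span (Set.range (MvPowerSeries.X : Fin d → P))) ^ n := by
  let I := MvPolynomial.idealOfVars (Fin d) k
  let e := MvPowerSeries.toAdicCompletionAlgEquiv (Fin d) k
  have h1 : e g ∈ LinearMap.ker (AdicCompletion.eval I (MvPolynomial (Fin d) k) n) := by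
    rw [LinearMap.mem_ker]
    change ((MvPowerSeries.toAdicCompletion (Fin d) k g).val n) = 0
    rw [MvPowerSeries.toAdicCompletion_apply_eq_mk_truncTotal, hg]
    rfl
  rw [← AdicCompletion.pow_smul_top_eq_ker_eval (MvPolynomial.idealOfVars_fg _ _)] at h1
  have h2 : g ∈ I ^ n • (⊤ : Submodule (MvPolynomial (Fin d) k) P) := by
    have h := Submodule.mem_map_of_mem (f := e.symm.toLinearMap) h1
    rw [Submodule.map_smul'', Submodule.map_top, LinearMap.range_eq_top.2 e.symm.surjective] at h
    rwa [show e.symm.toLinearMap (e g) = g from e.symm_apply_apply g] at h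
  rw [Ideal.smul_top_eq_map, Submodule.restrictScalars_mem, Ideal.map_pow] at h2
  refine Ideal.pow_right_mono ?_ n h2
  rw [Ideal.map_span, Ideal.span_le]
  rintro _ ⟨_, ⟨i, rfl⟩, rfl⟩
  refine Ideal.subset_span ⟨i, ?_⟩
  rw [MvPowerSeries.algebraMap_apply']
  simp

theorem span_X : Ideal.span (Set.range (MvPowerSeries.X : Fin d → P)) = maximalIdeal P := by
  refine le_antisymm (Ideal.span_le.2 ?_) fun f hf => ?_
  · rintro _ ⟨i, rfl⟩
    exact X_mem k i
  · rw [← pow_one (Ideal.span _)]
    refine mem_span_X_pow k ?_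
    ext m
    rw [MvPolynomial.coeff_zero]
    rcases lt_or_ge m.degree 1 with h | h
    · rw [MvPowerSeries.coeff_truncTotal _ h]
      obtain rfl : m = 0 := (Finsupp.degree_eq_zero_iff m).1 (by omega)
      exact (mem_max k).1 hf
    · exact MvPowerSeries.coeff_truncTotal_eq_zero _ h

instance isAdicComplete : IsAdicComplete (maximalIdeal P) P := by
  rw [← span_X k]; infer_instance

theorem natCast_le_ringKrullDim : ∀ d : ℕ, (d : WithBot ℕ∞) ≤ ringKrullDim (MvPowerSeries (Fin d) k) := by
  intro d
  induction d with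
  | zero => exact ringKrullDim_nonneg_of_nontrivial
  | succ d ih =>
    rw [Nat.cast_succ]
    refine le_trans (add_le_add ih le_rfl) ?_
    refine ringKrullDim_succ_le_of_surjective
      (MvPowerSeries.killCompl (R := k) (Fin.succEmb d)).toRingHom
      (fun p => ⟨MvPowerSeries.rename (Fin.succEmb d) p, MvPowerSeries.killCompl_rename_app p⟩)
      (r := MvPowerSeries.X 0) MvPowerSeries.X_mem_nonzeroDivisors ?_
    exact MvPowerSeries.killCompl_X_eq_zero fun ⟨i, hi⟩ => Fin.succ_ne_zero i hi

instance isRegularLocalRing : IsRegularLocalRing P :=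
  IsRegularLocalRing.of_spanFinrank_maximalIdeal_le _
    (le_trans (Nat.cast_le.2 (spanFinrank_le_of_span _ (span_X k))) (natCast_le_ringKrullDim k d))

variable {k} {R : Type w} [CommRing R] [IsLocalRing R] [IsNoetherianRing R] [Algebra k R]
  (hR : Function.Surjective ((residue R).comp (algebraMap k R)))
  (ψ : MvPowerSeries (Fin d) k →ₐ[k] R)
  (hsp : Ideal.span (Set.range fun i : Fin d => ψ (MvPowerSeries.X i)) = maximalIdeal R)

omit [IsNoetherianRing R] in
include hsp in
theorem map_maximalIdeal : (maximalIdeal P).map ψ.toRingHom = maximalIdeal R := by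
  rw [← span_X k, Ideal.map_span, ← Set.range_comp]
  exact hsp

include hR hsp in
theorem surjective : Function.Surjective ψ := by
  refine (surjective_of_cotangent ψ.toRingHom ?_ (map_maximalIdeal ψ hsp).le ?_).1
  · intro r
    obtain ⟨c, hc⟩ := hR r
    refine ⟨algebraMap k P c, ?_⟩
    rw [← hc]
    exact congrArg (residue R) (ψ.commutes c)
  · rw [map_maximalIdeal ψ hsp]; exact le_sup_left

include hsp in
theorem injective [IsRegularLocalRing R] (hd : (maximalIdeal R).spanFinrank = d) :
    Function.Injective ψ := by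
  have hmap := map_maximalIdeal ψ hsp
  have hloc : IsLocalHom ψ.toRingHom := ((local_hom_TFAE ψ.toRingHom).out 2 0).1 hmap.le
  rw [injective_iff_map_eq_zero]
  intro f hf
  by_contra hf0
  obtain ⟨n, hn, hn'⟩ := exists_order hf0
  obtain ⟨F, hF, hFf, hF0⟩ := exists_form (span_X k) hn hn'
  have h0 : MvPolynomial.map (residue R) (MvPolynomial.map ψ.toRingHom F) = 0 := by
    refine map_residue_eq_zero hd hsp (hF.map _) ?_
    rw [MvPolynomial.eval_map,
      show (fun i => ψ (MvPowerSeries.X i)) = ψ.toRingHom ∘ MvPowerSeries.X from rfl]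
    rw [← MvPolynomial.eval₂_comp, hFf, AlgHom.toRingHom_eq_coe, RingHom.coe_coe, hf]
    exact Submodule.zero_mem _
  rw [MvPolynomial.map_map, show (residue R).comp ψ.toRingHom =
    (ResidueField.map ψ.toRingHom).comp (residue P) from RingHom.ext fun _ => rfl,
    ← MvPolynomial.map_map] at h0
  exact hF0 (MvPolynomial.map_injective _ (ResidueField.map ψ.toRingHom).injective
    (h0.trans (map_zero _).symm))

end GrothLib.RegLoc.PS

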